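import Mathlib

set_option autoImplicit false

namespace Cfsg.Agent.PermutationGroups.WielandtType.Arith

/-- The integer `s` (sum of the two non-principal eigenvalues) is `0` or `-1`. -/
theorem s_cases {m k s : ℤ} (hk : 1 ≤ k) (hkm : k ≤ m - 1)
    (h : (m - 1) * (k + m * s) ^ 2 + m * (k + (m - 1) * s) ^ 2 = 2 * m * k - k ^ 2) :
    s = 0 ∨ s = -1 := by
  have hm : 2 ≤ m := by omega
  rcases lt_or_ge s (-1) with hs | hs
  · exfalso
    -- `k + (m-1) s ≤ -(m-1)` and `k + m s ≤ -(m+1)`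
    have h1 : k + m * s ≤ -(m + 1) := by nlinarith
    have h2 : (m + 1) ^ 2 ≤ (k + m * s) ^ 2 := by nlinarith
    have h3 : 0 ≤ m * (k + (m - 1) * s) ^ 2 := by positivity
    have h4 : (m - 1) * (m + 1) ^ 2 ≤ (m - 1) * (k + m * s) ^ 2 :=
      mul_le_mul_of_nonneg_left h2 (by omega)
    have h5 : 2 * m * k - k ^ 2 ≤ m ^ 2 := by nlinarith [sq_nonneg (m - k)]
    nlinarith
  · rcases lt_or_ge 0 s with hs' | hs'
    · exfalso
      have h1 : m + 1 ≤ k + m * s := by nlinarith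
      have h2 : (m + 1) ^ 2 ≤ (k + m * s) ^ 2 := by nlinarith
      have h3 : 0 ≤ m * (k + (m - 1) * s) ^ 2 := by positivity
      have h4 : (m - 1) * (m + 1) ^ 2 ≤ (m - 1) * (k + m * s) ^ 2 :=
        mul_le_mul_of_nonneg_left h2 (by omega)
      have h5 : 2 * m * k - k ^ 2 ≤ m ^ 2 := by nlinarith [sq_nonneg (m - k)]
      nlinarith
    · omega

theorem s_zero {m k : ℤ} (hk : 1 ≤ k) (hkm : k ≤ m - 1)
    (h : (m - 1) * (k + m * 0) ^ 2 + m * (k + (m - 1) * 0) ^ 2 = 2 * m * k - k ^ 2) :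
    k = 1 := by
  have h1 : 2 * m * k * (k - 1) = 0 := by linarith
  have : k - 1 = 0 := by
    rcases mul_eq_zero.1 h1 with h2 | h2
    · rcases mul_eq_zero.1 h2 with h3 | h3 <;> omega
    · exact h2
  omega

theorem s_neg_one {m k : ℤ} (hk : 1 ≤ k) (hkm : k ≤ m - 1)
    (h : (m - 1) * (k + m * (-1)) ^ 2 + m * (k + (m - 1) * (-1)) ^ 2 = 2 * m * k - k ^ 2) :
    ∃ a : ℕ, 0 < a ∧ m = 2 * a ^ 2 + 2 * a + 1 ∧ k = a * (2 * a + 1) ∧
      2 * m - 1 - k = (a + 1) * (2 * a + 1) := by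
  obtain ⟨a, ha⟩ : ∃ a : ℕ, (a : ℤ) = m - k - 1 := ⟨(m - k - 1).toNat, by omega⟩
  have hk' : k = m - a - 1 := by omega
  subst hk'
  have h1 : m * (((a : ℤ) + 1) ^ 2 + (a : ℤ) ^ 2 - m) = 0 := by linarith
  have h2 : ((a : ℤ) + 1) ^ 2 + (a : ℤ) ^ 2 - m = 0 := by
    rcases mul_eq_zero.1 h1 with h3 | h3
    · omega
    · exact h3
  have h4 : m = 2 * (a : ℤ) ^ 2 + 2 * a + 1 := by linarith
  refine ⟨a, ?_, h4, by rw [h4]; ring, by rw [h4]; ring⟩
  rcases Nat.eq_zero_or_pos a with h5 | h5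
  · subst h5
    simp at h4
    omega
  · exact h5

end Cfsg.Agent.PermutationGroups.WielandtType.Arith
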