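import Mathlib

set_option autoImplicit false

open MulAction

namespace Cfsg.Agent.PermutationGroups.WielandtType.Orbital

variable {G : Type*} [Group G] {Ω : Type*} [MulAction G Ω]

/-- The orbital of the pair `(a, b)`. -/
def Orb (G : Type*) [Group G] {Ω : Type*} [MulAction G Ω] (a b x y : Ω) : Prop :=
  ∃ g : G, g • a = x ∧ g • b = y

theorem orb_smul {a b x y : Ω} (g : G) (h : Orb G a b x y) : Orb G a b (g • x) (g • y) := by
  obtain ⟨k, rfl, rfl⟩ := h
  exact ⟨g * k, mul_smul _ _ _, mul_smul _ _ _⟩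

theorem orb_smul_iff {a b x y : Ω} (g : G) : Orb G a b (g • x) (g • y) ↔ Orb G a b x y := by
  refine ⟨fun h => ?_, orb_smul g⟩
  have := orb_smul g⁻¹ h
  simpa using this

theorem orb_self_left_iff {a b y : Ω} : Orb G a b a y ↔ y ∈ orbit (stabilizer G a) b := by
  constructor
  · rintro ⟨g, hg, rfl⟩
    exact ⟨⟨g, hg⟩, rfl⟩
  · rintro ⟨⟨g, hg⟩, rfl⟩
    exact ⟨g, hg, rfl⟩

theorem card_orb {a b x : Ω} (hx : ∃ g : G, g • a = x) :
    Nat.card {y // Orb G a b x y} = Nat.card (orbit (stabilizer G a) b) := by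
  obtain ⟨g, rfl⟩ := hx
  refine (Nat.card_congr ?_).symm
  refine Equiv.subtypeEquiv (MulAction.toPerm g) ?_
  intro y
  rw [← orb_self_left_iff]
  exact (orb_smul_iff g).symm

/-- The three suborbits of a rank three group. -/
theorem exists_three (a₀ : Ω)
    (hrank : Nat.card (orbitRel.Quotient (stabilizer G a₀) Ω) = 3) :
    ∃ b₁ b₂ : Ω, b₁ ≠ a₀ ∧ b₂ ≠ a₀ ∧ b₂ ∉ orbit (stabilizer G a₀) b₁ ∧
      ∀ y, y = a₀ ∨ y ∈ orbit (stabilizer G a₀) b₁ ∨ y ∈ orbit (stabilizer G a₀) b₂ := by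
  classical
  set H := stabilizer G a₀
  have : Finite (orbitRel.Quotient H Ω) := Nat.finite_of_card_ne_zero (by rw [hrank]; norm_num)
  have : Fintype (orbitRel.Quotient H Ω) := Fintype.ofFinite _
  rw [Nat.card_eq_fintype_card, ← Finset.card_univ, Finset.card_eq_three] at hrank
  obtain ⟨u, v, w, huv, huw, hvw, huniv⟩ := hrank
  have hall : ∀ q : orbitRel.Quotient H Ω, q = u ∨ q = v ∨ q = w := by
    intro q
    have : q ∈ (Finset.univ : Finset (orbitRel.Quotient H Ω)) := Finset.mem_univ _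
    rw [huniv] at this
    simpa using this
  -- reorder such that the first one is the class of `a₀`
  obtain ⟨v', w', hv', hw', hvw', hall'⟩ : ∃ v' w' : orbitRel.Quotient H Ω,
      v' ≠ (Quotient.mk'' a₀) ∧ w' ≠ (Quotient.mk'' a₀) ∧ v' ≠ w' ∧
      ∀ q : orbitRel.Quotient H Ω, q = Quotient.mk'' a₀ ∨ q = v' ∨ q = w' := by
    rcases hall (Quotient.mk'' a₀) with h | h | h
    · exact ⟨v, w, by rw [h]; exact huv.symm, by rw [h]; exact huw.symm, hvw,
        fun q => by rw [h]; exact hall q⟩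
    · refine ⟨u, w, by rw [h]; exact huv, by rw [h]; exact hvw.symm, huw, fun q => ?_⟩
      rw [h]
      rcases hall q with h' | h' | h'
      · exact Or.inr (Or.inl h')
      · exact Or.inl h'
      · exact Or.inr (Or.inr h')
    · refine ⟨u, v, by rw [h]; exact huw, by rw [h]; exact hvw, huv, fun q => ?_⟩
      rw [h]
      rcases hall q with h' | h' | h'
      · exact Or.inr (Or.inl h')
      · exact Or.inr (Or.inr h')
      · exact Or.inl h'
  obtain ⟨b₁, rfl⟩ := Quotient.exists_rep v'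
  obtain ⟨b₂, rfl⟩ := Quotient.exists_rep w'
  have hmk : ∀ x y : Ω, (Quotient.mk (orbitRel H Ω) x = Quotient.mk (orbitRel H Ω) y) ↔
      x ∈ orbit H y := by
    intro x y
    rw [Quotient.eq, orbitRel_apply]
  refine ⟨b₁, b₂, ?_, ?_, ?_, ?_⟩
  · rintro rfl
    exact hv' rfl
  · rintro rfl
    exact hw' rfl
  · intro h
    exact hvw' ((hmk b₂ b₁).2 h).symm
  · intro y
    rcases hall' (Quotient.mk _ y) with h | h | h
    · left
      have : y ∈ orbit H a₀ := (hmk y a₀).1 h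
      obtain ⟨⟨g, hg⟩, rfl⟩ := this
      exact hg
    · exact Or.inr (Or.inl ((hmk y b₁).1 h))
    · exact Or.inr (Or.inr ((hmk y b₂).1 h))

/-- Data of a rank 3 group: the three orbitals partition the pairs. -/
structure Rank3 (G : Type*) [Group G] {Ω : Type*} [MulAction G Ω] (a₀ b₁ b₂ : Ω) : Prop where
  trans : ∀ x : Ω, ∃ g : G, g • a₀ = x
  ne₁ : b₁ ≠ a₀
  ne₂ : b₂ ≠ a₀
  disj : b₂ ∉ orbit (stabilizer G a₀) b₁
  all : ∀ y, y = a₀ ∨ y ∈ orbit (stabilizer G a₀) b₁ ∨ y ∈ orbit (stabilizer G a₀) b₂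

namespace Rank3

variable {a₀ b₁ b₂ : Ω}

theorem swap (h : Rank3 G a₀ b₁ b₂) : Rank3 G a₀ b₂ b₁ where
  trans := h.trans
  ne₁ := h.ne₂
  ne₂ := h.ne₁
  disj := fun h' => h.disj ((orbit_eq_iff.2 h') ▸ mem_orbit_self b₁ |> fun hh => by
    rw [orbit_eq_iff.2 h']; exact mem_orbit_self b₂)
  all := fun y => by
    rcases h.all y with h' | h' | h'
    · exact Or.inl h'
    · exact Or.inr (Or.inr h')
    · exact Or.inr (Or.inl h')

theorem orb_irrefl (h : Rank3 G a₀ b₁ b₂) (x : Ω) : ¬ Orb G a₀ b₁ x x := by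
  rintro ⟨g, hg, hg'⟩
  exact h.ne₁ (smul_left_cancel g (hg'.trans hg.symm))

theorem orb_disj (h : Rank3 G a₀ b₁ b₂) {x y : Ω} (h₁ : Orb G a₀ b₁ x y)
    (h₂ : Orb G a₀ b₂ x y) : False := by
  obtain ⟨g, hg, hg'⟩ := h₁
  obtain ⟨k, hk, hk'⟩ := h₂
  apply h.disj
  refine ⟨⟨k⁻¹ * g, ?_⟩, ?_⟩
  · change (k⁻¹ * g) • a₀ = a₀
    rw [mul_smul, hg, ← hk, inv_smul_smul]
  · change (k⁻¹ * g) • b₁ = b₂
    rw [mul_smul, hg', ← hk', inv_smul_smul]

theorem orb_cases (h : Rank3 G a₀ b₁ b₂) (x y : Ω) :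
    x = y ∨ Orb G a₀ b₁ x y ∨ Orb G a₀ b₂ x y := by
  obtain ⟨g, rfl⟩ := h.trans x
  obtain ⟨y', rfl⟩ : ∃ y', g • y' = y := ⟨g⁻¹ • y, smul_inv_smul _ _⟩
  rcases h.all y' with h' | h' | h'
  · left; rw [h']
  · right; left
    rw [orb_smul_iff, orb_self_left_iff]; exact h'
  · right; right
    rw [orb_smul_iff, orb_self_left_iff]; exact h'

/-- If the two nontrivial subdegrees differ then the orbitals are self-paired. -/
theorem orb_symm [Finite Ω] (h : Rank3 G a₀ b₁ b₂)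
    (hk : Nat.card (orbit (stabilizer G a₀) b₁) ≠ Nat.card (orbit (stabilizer G a₀) b₂))
    {x y : Ω} (hxy : Orb G a₀ b₁ x y) : Orb G a₀ b₁ y x := by
  classical
  have := Fintype.ofFinite Ω
  rcases h.orb_cases b₁ a₀ with h' | h' | h'
  · exact absurd h' h.ne₁
  · obtain ⟨g, rfl, rfl⟩ := hxy
    exact orb_smul g h'
  · exfalso
    apply hk
    -- `R₁ x y ↔ R₂ y x`
    have hiff : ∀ x y : Ω, Orb G a₀ b₁ x y ↔ Orb G a₀ b₂ y x := by
      intro x y
      constructor
      · rintro ⟨g, rfl, rfl⟩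
        exact orb_smul g h'
      · rintro ⟨g, rfl, rfl⟩
        obtain ⟨k, hk, hk'⟩ := h'
        refine (orb_smul_iff g).2 ?_
        refine ⟨k⁻¹, ?_, ?_⟩
        · rw [← hk', inv_smul_smul]
        · rw [← hk, inv_smul_smul]
    have c₁ : Nat.card {p : Ω × Ω // Orb G a₀ b₁ p.1 p.2} =
        Nat.card Ω * Nat.card (orbit (stabilizer G a₀) b₁) := by
      rw [Nat.card_congr (Equiv.subtypeProdEquivSigmaSubtype (fun x y => Orb G a₀ b₁ x y)),
        Nat.card_sigma]
      rw [Finset.sum_congr rfl (fun x _ => card_orb (b := b₁) (h.trans x))]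
      simp [Nat.card_eq_fintype_card]
    have c₂ : Nat.card {p : Ω × Ω // Orb G a₀ b₂ p.1 p.2} =
        Nat.card Ω * Nat.card (orbit (stabilizer G a₀) b₂) := by
      rw [Nat.card_congr (Equiv.subtypeProdEquivSigmaSubtype (fun x y => Orb G a₀ b₂ x y)),
        Nat.card_sigma]
      rw [Finset.sum_congr rfl (fun x _ => card_orb (b := b₂) (h.trans x))]
      simp [Nat.card_eq_fintype_card]
    have c₃ : Nat.card {p : Ω × Ω // Orb G a₀ b₁ p.1 p.2} =
        Nat.card {p : Ω × Ω // Orb G a₀ b₂ p.1 p.2} := by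
      refine Nat.card_congr (Equiv.subtypeEquiv (Equiv.prodComm Ω Ω) ?_)
      rintro ⟨x, y⟩
      exact hiff x y
    rw [c₁, c₂] at c₃
    have hpos : 0 < Nat.card Ω := by
      have : Nonempty Ω := ⟨a₀⟩
      exact Nat.card_pos
    exact Nat.eq_of_mul_eq_mul_left hpos c₃

/-- `1 + k₁ + k₂ = n`. -/
theorem card_eq [Finite Ω] (h : Rank3 G a₀ b₁ b₂) :
    1 + Nat.card (orbit (stabilizer G a₀) b₁) + Nat.card (orbit (stabilizer G a₀) b₂) =
      Nat.card Ω := by
  classical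
  have := Fintype.ofFinite Ω
  have hcov : (Finset.univ : Finset Ω) = ({a₀} : Finset Ω) ∪
      (Finset.univ.filter fun y => y ∈ orbit (stabilizer G a₀) b₁) ∪
      (Finset.univ.filter fun y => y ∈ orbit (stabilizer G a₀) b₂) := by
    ext y
    simp only [Finset.mem_univ, Finset.mem_union, Finset.mem_singleton, Finset.mem_filter,
      true_and, true_iff]
    rcases h.all y with h' | h' | h' <;> tauto
  have hn₁ : a₀ ∉ orbit (stabilizer G a₀) b₁ := by
    intro h'
    rw [← orb_self_left_iff] at h'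
    exact h.orb_irrefl _ h'
  have hn₂ : a₀ ∉ orbit (stabilizer G a₀) b₂ := by
    intro h'
    rw [← orb_self_left_iff] at h'
    exact h.swap.orb_irrefl _ h'
  rw [Nat.card_eq_fintype_card (α := Ω), ← Finset.card_univ, hcov, Finset.card_union_of_disjoint,
    Finset.card_union_of_disjoint, Finset.card_singleton]
  · rw [Nat.card_eq_fintype_card, Nat.card_eq_fintype_card, Fintype.card_subtype,
      Fintype.card_subtype]
  · rw [Finset.disjoint_singleton_left, Finset.mem_filter]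
    exact fun h' => hn₁ h'.2
  · rw [Finset.disjoint_left]
    intro y hy hy'
    rw [Finset.mem_union, Finset.mem_singleton, Finset.mem_filter] at hy
    rw [Finset.mem_filter] at hy'
    rcases hy with rfl | ⟨_, hy⟩
    · exact hn₂ hy'.2
    · rw [← orb_self_left_iff] at hy
      have hy'2 := hy'.2
      rw [← orb_self_left_iff] at hy'2
      exact h.orb_disj hy hy'2

end Rank3

end Cfsg.Agent.PermutationGroups.WielandtType.Orbital
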