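import Mathlib

set_option autoImplicit false

open Module LinearMap

namespace Cfsg.Agent.PermutationGroups.WielandtType.Rep

variable {G : Type*} [Group G]

/-- An equivariant idempotent `E` cuts out a subrepresentation (on `range E`) with character
`g ↦ tr (E ∘ ρ g)`. -/
theorem exists_rep_of_idem {V : Type*} [AddCommGroup V] [Module ℂ V] [FiniteDimensional ℂ V]
    (ρ : Representation ℂ G V) (E : V →ₗ[ℂ] V) (hE : E ∘ₗ E = E)
    (hc : ∀ g, E ∘ₗ ρ g = ρ g ∘ₗ E) :
    ∃ σ : Representation ℂ G (LinearMap.range E),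
      ∀ g, σ.character g = LinearMap.trace ℂ V (E ∘ₗ ρ g) := by
  have hinv : ∀ g : G, ∀ v ∈ LinearMap.range E, ρ g v ∈ LinearMap.range E := by
    rintro g _ ⟨w, rfl⟩
    exact ⟨ρ g w, by
      have := congrArg (fun f => f w) (hc g)
      simpa using this⟩
  let S : Subrepresentation ρ := ⟨LinearMap.range E, hinv⟩
  refine ⟨S.toRepresentation, fun g => ?_⟩
  have hf : ∀ x, (E ∘ₗ ρ g) x ∈ LinearMap.range E := fun x => ⟨ρ g x, rfl⟩
  rw [← LinearMap.trace_restrict_eq_of_forall_mem (LinearMap.range E) (E ∘ₗ ρ g) hf]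
  have : S.toRepresentation g = (E ∘ₗ ρ g).restrict (fun x _ => hf x) := by
    ext ⟨x, hx⟩
    obtain ⟨y, rfl⟩ := hx
    have h1 : E (ρ g (E y)) = ρ g (E y) := by
      have h2 : E (E (ρ g y)) = E (ρ g y) := congrArg (fun f => f (ρ g y)) hE
      have h3 : E (ρ g y) = ρ g (E y) := congrArg (fun f => f y) (hc g)
      rw [← h3, h2]
    change ρ g (E y) = E (ρ g (E y))
    rw [h1]
  change LinearMap.trace ℂ _ (S.toRepresentation g) = _
  rw [this]

theorem hom_dim_add [Finite G] {V₁ V₂ W₁ W₂ U : Type*}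
    [AddCommGroup V₁] [Module ℂ V₁] [FiniteDimensional ℂ V₁]
    [AddCommGroup V₂] [Module ℂ V₂] [FiniteDimensional ℂ V₂]
    [AddCommGroup W₁] [Module ℂ W₁] [FiniteDimensional ℂ W₁]
    [AddCommGroup W₂] [Module ℂ W₂] [FiniteDimensional ℂ W₂]
    [AddCommGroup U] [Module ℂ U] [FiniteDimensional ℂ U]
    (ρ₁ : Representation ℂ G V₁) (ρ₂ : Representation ℂ G V₂)
    (σ₁ : Representation ℂ G W₁) (σ₂ : Representation ℂ G W₂) (τ : Representation ℂ G U)
    (hsum : ∀ g, ρ₁.character g + ρ₂.character g = σ₁.character g + σ₂.character g) :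
    finrank ℂ (τ.IntertwiningMap ρ₁) + finrank ℂ (τ.IntertwiningMap ρ₂) =
      finrank ℂ (τ.IntertwiningMap σ₁) + finrank ℂ (τ.IntertwiningMap σ₂) := by
  classical
  have : Fintype G := Fintype.ofFinite G
  have : Invertible (Nat.card G : ℂ) := invertibleOfNonzero (by
    rw [Nat.cast_ne_zero]; exact Nat.card_pos.ne')
  have h1 : (finrank ℂ (τ.IntertwiningMap ρ₁) : ℂ) + finrank ℂ (τ.IntertwiningMap ρ₂) =
      finrank ℂ (τ.IntertwiningMap σ₁) + finrank ℂ (τ.IntertwiningMap σ₂) := by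
    rw [← Representation.card_inv_mul_sum_char_mul_char_eq_finrank,
      ← Representation.card_inv_mul_sum_char_mul_char_eq_finrank,
      ← Representation.card_inv_mul_sum_char_mul_char_eq_finrank,
      ← Representation.card_inv_mul_sum_char_mul_char_eq_finrank,
      ← mul_add, ← mul_add, ← Finset.sum_add_distrib, ← Finset.sum_add_distrib]
    congr 1
    apply Finset.sum_congr rfl
    intro g _
    rw [← add_mul, ← add_mul, hsum]
  exact_mod_cast h1

/-- Two irreducible representations of different dimensions embedding into `σ`: the dimensions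
add up to at most the dimension of `σ`. -/
theorem dim_add_le {V₁ V₂ W : Type*}
    [AddCommGroup V₁] [Module ℂ V₁] [FiniteDimensional ℂ V₁]
    [AddCommGroup V₂] [Module ℂ V₂] [FiniteDimensional ℂ V₂]
    [AddCommGroup W] [Module ℂ W] [FiniteDimensional ℂ W]
    (ρ₁ : Representation ℂ G V₁) (ρ₂ : Representation ℂ G V₂)
    (σ : Representation ℂ G W) (h₁ : ρ₁.IsIrreducible) (h₂ : ρ₂.IsIrreducible)
    (hne : finrank ℂ V₁ ≠ finrank ℂ V₂)
    (f₁ : ρ₁.IntertwiningMap σ) (f₂ : ρ₂.IntertwiningMap σ) (hf₁ : f₁ ≠ 0) (hf₂ : f₂ ≠ 0) :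
    finrank ℂ V₁ + finrank ℂ V₂ ≤ finrank ℂ W := by
  have i₁ : Function.Injective f₁ :=
    (Representation.IsIrreducible.injective_or_eq_zero f₁).resolve_right hf₁
  have i₂ : Function.Injective f₂ :=
    (Representation.IsIrreducible.injective_or_eq_zero f₂).resolve_right hf₂
  have d₁ : finrank ℂ (LinearMap.range f₁.toLinearMap) = finrank ℂ V₁ :=
    LinearMap.finrank_range_of_inj i₁
  have d₂ : finrank ℂ (LinearMap.range f₂.toLinearMap) = finrank ℂ V₂ :=
    LinearMap.finrank_range_of_inj i₂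
  -- the intersection of the ranges is zero
  have hbot : LinearMap.range f₁.toLinearMap ⊓ LinearMap.range f₂.toLinearMap = ⊥ := by
    by_contra hcon
    -- pull back to `V₁`
    let P₁ : Subrepresentation ρ₁ :=
      ⟨(LinearMap.range f₂.toLinearMap).comap f₁.toLinearMap, by
        intro g v hv
        obtain ⟨w, hw⟩ := hv
        refine ⟨ρ₂ g w, ?_⟩
        have a1 := Representation.IntertwiningMap.isIntertwining _ _ f₁ g v
        have a2 := Representation.IntertwiningMap.isIntertwining _ _ f₂ g w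
        change f₂ (ρ₂ g w) = f₁ (ρ₁ g v)
        rw [a1, a2]
        congr 1⟩
    let P₂ : Subrepresentation ρ₂ :=
      ⟨(LinearMap.range f₁.toLinearMap).comap f₂.toLinearMap, by
        intro g v hv
        obtain ⟨w, hw⟩ := hv
        refine ⟨ρ₁ g w, ?_⟩
        have a1 := Representation.IntertwiningMap.isIntertwining _ _ f₂ g v
        have a2 := Representation.IntertwiningMap.isIntertwining _ _ f₁ g w
        change f₁ (ρ₁ g w) = f₂ (ρ₂ g v)
        rw [a1, a2]
        congr 1⟩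
    obtain ⟨x, hx, hx0⟩ := Submodule.exists_mem_ne_zero_of_ne_bot hcon
    obtain ⟨⟨v, hv⟩, ⟨w, hw⟩⟩ := hx
    have hP₁ : P₁ = ⊤ := by
      rcases h₁.eq_bot_or_eq_top P₁ with h | h
      · exfalso
        have hv1 : v ∈ P₁.toSubmodule := ⟨w, by rw [hw, ← hv]⟩
        rw [h] at hv1
        have : v = 0 := hv1
        apply hx0
        rw [← hv, this, map_zero]
      · exact h
    have hP₂ : P₂ = ⊤ := by
      rcases h₂.eq_bot_or_eq_top P₂ with h | h
      · exfalso
        have hv1 : w ∈ P₂.toSubmodule := ⟨v, by rw [hw, ← hv]⟩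
        rw [h] at hv1
        have : w = 0 := hv1
        apply hx0
        rw [← hw, this, map_zero]
      · exact h
    have le₁ : LinearMap.range f₁.toLinearMap ≤ LinearMap.range f₂.toLinearMap := by
      rintro _ ⟨v, rfl⟩
      have : v ∈ P₁.toSubmodule := by rw [hP₁]; trivial
      exact this
    have le₂ : LinearMap.range f₂.toLinearMap ≤ LinearMap.range f₁.toLinearMap := by
      rintro _ ⟨v, rfl⟩
      have : v ∈ P₂.toSubmodule := by rw [hP₂]; trivial
      exact this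
    apply hne
    rw [← d₁, ← d₂, le_antisymm le₁ le₂]
  have hs := Submodule.finrank_sup_add_finrank_inf_eq
    (LinearMap.range f₁.toLinearMap) (LinearMap.range f₂.toLinearMap)
  rw [hbot, finrank_bot, add_zero, d₁, d₂] at hs
  rw [← hs]
  exact Submodule.finrank_le _

theorem exists_ne_zero_of_finrank {M : Type*} [AddCommGroup M] [Module ℂ M]
    (h : 0 < finrank ℂ M) : ∃ x : M, x ≠ 0 := by
  by_contra hcon
  push Not at hcon
  have : Subsingleton M := ⟨fun a b => by rw [hcon a, hcon b]⟩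
  rw [finrank_zero_of_subsingleton] at h
  exact lt_irrefl _ h

/-- If two characters `ψ₁ + ψ₂` of positive degree sum to `χ₁ + χ₂` with `χ₁, χ₂` irreducible of
different degrees, then the degrees agree up to order. -/
theorem dims_eq [Finite G] {V₁ V₂ W₁ W₂ : Type*}
    [AddCommGroup V₁] [Module ℂ V₁] [FiniteDimensional ℂ V₁]
    [AddCommGroup V₂] [Module ℂ V₂] [FiniteDimensional ℂ V₂]
    [AddCommGroup W₁] [Module ℂ W₁] [FiniteDimensional ℂ W₁]
    [AddCommGroup W₂] [Module ℂ W₂] [FiniteDimensional ℂ W₂]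
    (ρ₁ : Representation ℂ G V₁) (ρ₂ : Representation ℂ G V₂)
    (σ₁ : Representation ℂ G W₁) (σ₂ : Representation ℂ G W₂)
    (h₁ : ρ₁.IsIrreducible) (h₂ : ρ₂.IsIrreducible)
    (hne : finrank ℂ V₁ ≠ finrank ℂ V₂)
    (hsum : ∀ g, ρ₁.character g + ρ₂.character g = σ₁.character g + σ₂.character g)
    (hW₁ : 0 < finrank ℂ W₁) (hW₂ : 0 < finrank ℂ W₂) :
    (finrank ℂ W₁ = finrank ℂ V₁ ∧ finrank ℂ W₂ = finrank ℂ V₂) ∨
      (finrank ℂ W₁ = finrank ℂ V₂ ∧ finrank ℂ W₂ = finrank ℂ V₁) := by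
  classical
  -- dimension
  have hdim : finrank ℂ V₁ + finrank ℂ V₂ = finrank ℂ W₁ + finrank ℂ W₂ := by
    have := hsum 1
    simp only [Representation.char_one] at this
    exact_mod_cast this
  have k₁ := hom_dim_add ρ₁ ρ₂ σ₁ σ₂ ρ₁ hsum
  have k₂ := hom_dim_add ρ₁ ρ₂ σ₁ σ₂ ρ₂ hsum
  have p₁ : 1 ≤ finrank ℂ (ρ₁.IntertwiningMap ρ₁) := by
    rw [Representation.IsIrreducible.finrank_intertwiningMap_self]
  have p₂ : 1 ≤ finrank ℂ (ρ₂.IntertwiningMap ρ₂) := by
    rw [Representation.IsIrreducible.finrank_intertwiningMap_self]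
  have e₁ : (∃ f : ρ₁.IntertwiningMap σ₁, f ≠ 0) ∨ (∃ f : ρ₁.IntertwiningMap σ₂, f ≠ 0) := by
    rcases Nat.eq_zero_or_pos (finrank ℂ (ρ₁.IntertwiningMap σ₁)) with h | h
    · exact Or.inr (exists_ne_zero_of_finrank (by omega))
    · exact Or.inl (exists_ne_zero_of_finrank h)
  have e₂ : (∃ f : ρ₂.IntertwiningMap σ₁, f ≠ 0) ∨ (∃ f : ρ₂.IntertwiningMap σ₂, f ≠ 0) := by
    rcases Nat.eq_zero_or_pos (finrank ℂ (ρ₂.IntertwiningMap σ₁)) with h | h
    · exact Or.inr (exists_ne_zero_of_finrank (by omega))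
    · exact Or.inl (exists_ne_zero_of_finrank h)
  rcases e₁ with ⟨f₁, hf₁⟩ | ⟨f₁, hf₁⟩ <;> rcases e₂ with ⟨f₂, hf₂⟩ | ⟨f₂, hf₂⟩
  · have := dim_add_le ρ₁ ρ₂ σ₁ h₁ h₂ hne f₁ f₂ hf₁ hf₂
    omega
  · have l₁ : finrank ℂ V₁ ≤ finrank ℂ W₁ := LinearMap.finrank_le_finrank_of_injective
      (f := f₁.toLinearMap)
      ((Representation.IsIrreducible.injective_or_eq_zero f₁).resolve_right hf₁)
    have l₂ : finrank ℂ V₂ ≤ finrank ℂ W₂ := LinearMap.finrank_le_finrank_of_injective
      (f := f₂.toLinearMap)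
      ((Representation.IsIrreducible.injective_or_eq_zero f₂).resolve_right hf₂)
    omega
  · have l₁ : finrank ℂ V₁ ≤ finrank ℂ W₂ := LinearMap.finrank_le_finrank_of_injective
      (f := f₁.toLinearMap)
      ((Representation.IsIrreducible.injective_or_eq_zero f₁).resolve_right hf₁)
    have l₂ : finrank ℂ V₂ ≤ finrank ℂ W₁ := LinearMap.finrank_le_finrank_of_injective
      (f := f₂.toLinearMap)
      ((Representation.IsIrreducible.injective_or_eq_zero f₂).resolve_right hf₂)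
    omega
  · have := dim_add_le ρ₁ ρ₂ σ₂ h₁ h₂ hne f₁ f₂ hf₁ hf₂
    omega

end Cfsg.Agent.PermutationGroups.WielandtType.Rep
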