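import Mathlib
import Cfsg.Agent.PermutationGroups.PermChar
import Cfsg.Agent.PermutationGroups.WielandtType.Rep
import Cfsg.Agent.PermutationGroups.WielandtType.Orbital

set_option autoImplicit false

open MulAction Module
open Cfsg.Agent.PermutationGroups.WielandtType.Orbital

namespace Cfsg.Agent.PermutationGroups.WielandtType.Matrix

variable {G : Type*} [Group G] {Ω : Type*} [Fintype Ω] [MulAction G Ω]

open scoped Classical in
/-- Adjacency matrix of the orbital of `(a, b)`. -/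
noncomputable def adj (G : Type*) [Group G] {Ω : Type*} [MulAction G Ω] (a b : Ω) :
    Matrix Ω Ω ℂ :=
  Matrix.of fun x y => if Orb G a b x y then 1 else 0

open scoped Classical in
theorem adj_apply (a b x y : Ω) : adj G a b x y = if Orb G a b x y then 1 else 0 := rfl

open scoped Classical in
/-- Number of paths of length two. -/
noncomputable def paths (G : Type*) [Group G] {Ω : Type*} [Fintype Ω] [MulAction G Ω]
    (a b : Ω) (x y : Ω) : ℕ :=
  (Finset.univ.filter fun z => Orb G a b x z ∧ Orb G a b z y).card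

theorem adj_mul_adj_apply (a b x y : Ω) :
    (adj G a b * adj G a b) x y = (paths G a b x y : ℂ) := by
  classical
  rw [Matrix.mul_apply, paths, Finset.card_filter, Nat.cast_sum]
  refine Finset.sum_congr rfl fun z _ => ?_
  rw [adj_apply, adj_apply]
  by_cases h₁ : Orb G a b x z <;> by_cases h₂ : Orb G a b z y <;> simp [h₁, h₂]

theorem paths_smul (a b x y : Ω) (g : G) : paths G a b (g • x) (g • y) = paths G a b x y := by
  classical
  rw [paths, paths]
  symm
  refine Finset.card_bij (fun z _ => g • z) ?_ ?_ ?_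
  · intro z hz
    rw [Finset.mem_filter] at hz ⊢
    exact ⟨Finset.mem_univ _, orb_smul g hz.2.1, orb_smul g hz.2.2⟩
  · intro z _ z' _ h
    exact smul_left_cancel g h
  · intro z hz
    rw [Finset.mem_filter] at hz
    refine ⟨g⁻¹ • z, ?_, smul_inv_smul _ _⟩
    rw [Finset.mem_filter]
    refine ⟨Finset.mem_univ _, ?_, ?_⟩
    · rw [← orb_smul_iff g, smul_inv_smul]; exact hz.2.1
    · rw [← orb_smul_iff g, smul_inv_smul]; exact hz.2.2

/-- The all-ones matrix. -/
def ones (Ω : Type*) : Matrix Ω Ω ℂ := Matrix.of fun _ _ => 1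

theorem ones_apply (x y : Ω) : ones Ω x y = 1 := rfl

theorem ones_mul_ones : ones Ω * ones Ω = (Fintype.card Ω : ℂ) • ones Ω := by
  ext x y
  rw [Matrix.mul_apply]
  simp [ones_apply]

section

variable {a₀ b₁ b₂ : Ω}

/-- the valency -/
noncomputable def val (G : Type*) [Group G] {Ω : Type*} [MulAction G Ω] (a b : Ω) : ℕ :=
  Nat.card (orbit (stabilizer G a) b)

theorem row_sum (h : Rank3 G a₀ b₁ b₂) (x : Ω) : ∑ y, adj G a₀ b₁ x y = (val G a₀ b₁ : ℂ) := by
  classical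
  rw [val, ← card_orb (b := b₁) (h.trans x), Nat.card_eq_fintype_card, Fintype.card_subtype,
    Finset.card_filter, Nat.cast_sum]
  refine Finset.sum_congr rfl fun y _ => ?_
  rw [adj_apply]
  split_ifs <;> simp

theorem adj_symm (h : Rank3 G a₀ b₁ b₂) (hk : val G a₀ b₁ ≠ val G a₀ b₂) (x y : Ω) :
    adj G a₀ b₁ x y = adj G a₀ b₁ y x := by
  classical
  rw [adj_apply, adj_apply]
  have : Orb G a₀ b₁ x y ↔ Orb G a₀ b₁ y x := ⟨h.orb_symm hk, h.orb_symm hk⟩
  simp only [this]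

theorem adj_mul_ones (h : Rank3 G a₀ b₁ b₂) :
    adj G a₀ b₁ * ones Ω = (val G a₀ b₁ : ℂ) • ones Ω := by
  ext x y
  rw [Matrix.mul_apply]
  simp only [ones_apply, mul_one, Matrix.smul_apply, smul_eq_mul]
  exact row_sum h x

theorem ones_mul_adj (h : Rank3 G a₀ b₁ b₂) (hk : val G a₀ b₁ ≠ val G a₀ b₂) :
    ones Ω * adj G a₀ b₁ = (val G a₀ b₁ : ℂ) • ones Ω := by
  ext x y
  rw [Matrix.mul_apply]
  simp only [ones_apply, one_mul, mul_one, Matrix.smul_apply, smul_eq_mul]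
  rw [Finset.sum_congr rfl (fun z _ => adj_symm h hk z y)]
  exact row_sum h y

theorem adj_diag (h : Rank3 G a₀ b₁ b₂) (x : Ω) : adj G a₀ b₁ x x = 0 := by
  classical
  rw [adj_apply, if_neg (h.orb_irrefl x)]

theorem paths_diag (h : Rank3 G a₀ b₁ b₂) (hk : val G a₀ b₁ ≠ val G a₀ b₂) (x : Ω) :
    paths G a₀ b₁ x x = val G a₀ b₁ := by
  classical
  rw [val, ← card_orb (b := b₁) (h.trans x), Nat.card_eq_fintype_card, Fintype.card_subtype,
    paths]
  congr 1
  apply Finset.filter_congr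
  intro y _
  exact ⟨fun hh => hh.1, fun hh => ⟨hh, h.orb_symm hk hh⟩⟩

theorem paths_le (h : Rank3 G a₀ b₁ b₂) (x y : Ω) :
    paths G a₀ b₁ x y ≤ val G a₀ b₁ := by
  classical
  rw [val, ← card_orb (b := b₁) (h.trans x), Nat.card_eq_fintype_card, Fintype.card_subtype,
    paths]
  apply Finset.card_le_card
  intro z hz
  rw [Finset.mem_filter] at hz ⊢
  exact ⟨hz.1, hz.2.1⟩

theorem paths_lt (h : Rank3 G a₀ b₁ b₂) {x y : Ω} (hxy : Orb G a₀ b₁ x y) :
    paths G a₀ b₁ x y < val G a₀ b₁ := by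
  classical
  rw [val, ← card_orb (b := b₁) (h.trans x), Nat.card_eq_fintype_card, Fintype.card_subtype,
    paths]
  apply Finset.card_lt_card
  rw [Finset.ssubset_iff_of_subset]
  · refine ⟨y, ?_, ?_⟩
    · rw [Finset.mem_filter]; exact ⟨Finset.mem_univ _, hxy⟩
    · rw [Finset.mem_filter]
      rintro ⟨_, _, h'⟩
      exact h.orb_irrefl y h'
  · intro z hz
    rw [Finset.mem_filter] at hz ⊢
    exact ⟨hz.1, hz.2.1⟩

/-- `A² = (β-γ) A + (k-γ) I + γ J`. -/
theorem adj_sq [DecidableEq Ω] (h : Rank3 G a₀ b₁ b₂) (hk : val G a₀ b₁ ≠ val G a₀ b₂) :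
    adj G a₀ b₁ * adj G a₀ b₁ =
      ((paths G a₀ b₁ a₀ b₁ : ℂ) - paths G a₀ b₁ a₀ b₂) • adj G a₀ b₁ +
      ((val G a₀ b₁ : ℂ) - paths G a₀ b₁ a₀ b₂) • (1 : Matrix Ω Ω ℂ) +
      (paths G a₀ b₁ a₀ b₂ : ℂ) • ones Ω := by
  classical
  ext x y
  rw [adj_mul_adj_apply]
  simp only [Matrix.add_apply, Matrix.smul_apply, smul_eq_mul, ones_apply, mul_one]
  by_cases hxy : x = y
  · subst hxy
    rw [paths_diag h hk, adj_diag h, Matrix.one_apply_eq]
    ring
  · rw [Matrix.one_apply_ne hxy]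
    rcases h.orb_cases x y with h' | h' | h'
    · exact absurd h' hxy
    · rw [adj_apply, if_pos h']
      obtain ⟨g, rfl, rfl⟩ := h'
      rw [paths_smul]
      ring
    · have hn : ¬ Orb G a₀ b₁ x y := fun h'' => h.orb_disj h'' h'
      rw [adj_apply, if_neg hn]
      obtain ⟨g, rfl, rfl⟩ := h'
      rw [paths_smul]
      ring

end

/-- An invariant matrix commutes with the permutation representation. -/
theorem toLin'_comm [DecidableEq Ω] (M : Matrix Ω Ω ℂ)
    (hM : ∀ (g : G) (x y : Ω), M (g • x) (g • y) = M x y) (g : G) :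
    Matrix.toLin' M ∘ₗ Cfsg.permRep ℂ G Ω g = Cfsg.permRep ℂ G Ω g ∘ₗ Matrix.toLin' M := by
  refine LinearMap.ext (fun f => ?_)
  funext x
  change (M.mulVec (Cfsg.permRep ℂ G Ω g f)) x = (M.mulVec f) (g⁻¹ • x)
  rw [Matrix.mulVec, Matrix.mulVec, dotProduct, dotProduct]
  refine Fintype.sum_equiv (MulAction.toPerm g⁻¹) _ _ (fun y => ?_)
  change M x y * f (g⁻¹ • y) = M (g⁻¹ • x) (g⁻¹ • y) * f (g⁻¹ • y)
  rw [hM]

/-- The idempotent for the eigenvalue `θ`. -/
noncomputable def idem [DecidableEq Ω] (A : Matrix Ω Ω ℂ) (k θ θ' : ℂ) : Matrix Ω Ω ℂ :=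
  (θ - θ')⁻¹ • (A - θ' • (1 : Matrix Ω Ω ℂ) - ((k - θ') / (Fintype.card Ω : ℂ)) • ones Ω)

theorem idem_mul_self [DecidableEq Ω] {A : Matrix Ω Ω ℂ} {k θ θ' γ : ℂ} (hn : (Fintype.card Ω : ℂ) ≠ 0)
    (hne : θ ≠ θ')
    (hAA : A * A = (θ + θ') • A - (θ * θ') • (1 : Matrix Ω Ω ℂ) + γ • ones Ω)
    (hAJ : A * ones Ω = k • ones Ω) (hJA : ones Ω * A = k • ones Ω)
    (hγ : γ * (Fintype.card Ω : ℂ) = (k - θ) * (k - θ')) :
    idem A k θ θ' * idem A k θ θ' = idem A k θ θ' := by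
  have hd : θ - θ' ≠ 0 := sub_ne_zero.2 hne
  rw [idem]
  set n : ℂ := (Fintype.card Ω : ℂ)
  set c : ℂ := (k - θ') / n with hc
  have hcn : c * n = k - θ' := by rw [hc]; field_simp
  have key : (A - θ' • (1 : Matrix Ω Ω ℂ) - c • ones Ω) * (A - θ' • (1 : Matrix Ω Ω ℂ) - c • ones Ω) =
      (θ - θ') • (A - θ' • (1 : Matrix Ω Ω ℂ) - c • ones Ω) := by
    have e : (A - θ' • (1 : Matrix Ω Ω ℂ) - c • ones Ω) *
        (A - θ' • (1 : Matrix Ω Ω ℂ) - c • ones Ω) =
        A * A - (2 * θ') • A + (θ' * θ') • (1 : Matrix Ω Ω ℂ) - c • (A * ones Ω)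
          - c • (ones Ω * A) + (2 * θ' * c) • ones Ω + (c * c) • (ones Ω * ones Ω) := by
      simp only [sub_mul, mul_sub, smul_mul_assoc, mul_smul_comm, one_mul, mul_one, smul_smul,
        smul_sub]
      module
    rw [e, hAA, hAJ, hJA, ones_mul_ones]
    change _ = _
    ext x y
    simp only [Matrix.add_apply, Matrix.sub_apply, Matrix.smul_apply, smul_eq_mul, ones_apply]
    change _ * A x y - _ * (1 : Matrix Ω Ω ℂ) x y + γ * 1 - _ * A x y + _ - _ - _ + _ +
      c * c * (n * 1) = _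
    have h2 : c * c * (n * 1) = c * (k - θ') := by rw [← hcn]; ring
    rw [h2]
    have h3 : γ = c * (k - θ) := by
      have : γ * n = (c * (k - θ)) * n := by
        rw [hγ, ← hcn]; ring
      exact mul_right_cancel₀ hn this
    rw [h3]
    ring
  rw [smul_mul_smul_comm, key, smul_smul]
  congr 1
  field_simp

theorem idem_add [DecidableEq Ω] {A : Matrix Ω Ω ℂ} {k θ θ' : ℂ} (hn : (Fintype.card Ω : ℂ) ≠ 0)
    (hne : θ ≠ θ') :
    idem A k θ θ' + idem A k θ' θ = 1 - ((Fintype.card Ω : ℂ)⁻¹) • ones Ω := by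
  have hd : θ - θ' ≠ 0 := sub_ne_zero.2 hne
  have hd' : θ' - θ ≠ 0 := sub_ne_zero.2 hne.symm
  rw [idem, idem]
  ext x y
  simp only [Matrix.add_apply, Matrix.sub_apply, Matrix.smul_apply, smul_eq_mul, ones_apply]
  have : θ' - θ = -(θ - θ') := by ring
  rw [this]
  field_simp
  ring

end Cfsg.Agent.PermutationGroups.WielandtType.Matrix
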