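import Mathlib
import Cfsg.Agent.PermutationGroups.PermChar
import Cfsg.Agent.PermutationGroups.WielandtType.Arith
import Cfsg.Agent.PermutationGroups.WielandtType.Matrix

set_option autoImplicit false

open MulAction Module
open scoped Pointwise
open Cfsg.Agent.PermutationGroups.WielandtType.Orbital
open Cfsg.Agent.PermutationGroups.WielandtType.Matrix
open Cfsg.Agent.PermutationGroups.WielandtType

namespace Cfsg.Agent.PermutationGroups.WielandtType.Main

variable {G : Type*} [Group G] {Ω : Type*} [Fintype Ω] [MulAction G Ω]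
variable {a₀ b₁ b₂ : Ω}

theorem adj_inv (a b : Ω) (g : G) (x y : Ω) : adj G a b (g • x) (g • y) = adj G a b x y := by
  classical
  rw [adj_apply, adj_apply]
  simp only [orb_smul_iff]

theorem idem_inv [DecidableEq Ω] (a b : Ω) (k θ θ' : ℂ) (g : G) (x y : Ω) :
    idem (adj G a b) k θ θ' (g • x) (g • y) = idem (adj G a b) k θ θ' x y := by
  rw [idem]
  simp only [Matrix.sub_apply, Matrix.smul_apply, ones_apply, adj_inv]
  have : (1 : Matrix Ω Ω ℂ) (g • x) (g • y) = (1 : Matrix Ω Ω ℂ) x y := by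
    rw [Matrix.one_apply, Matrix.one_apply]
    simp only [smul_left_cancel_iff]
  rw [this]

theorem trace_ones_comp [DecidableEq Ω] (g : G) :
    LinearMap.trace ℂ (Ω → ℂ) (Matrix.toLin' (ones Ω) ∘ₗ Cfsg.permRep ℂ G Ω g) =
      Fintype.card Ω := by
  have : Matrix.toLin' (ones Ω) ∘ₗ Cfsg.permRep ℂ G Ω g = Matrix.toLin' (ones Ω) := by
    refine LinearMap.ext (fun f => ?_)
    funext x
    change ((ones Ω).mulVec (Cfsg.permRep ℂ G Ω g f)) x = ((ones Ω).mulVec f) x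
    rw [Matrix.mulVec, Matrix.mulVec, dotProduct, dotProduct]
    simp only [ones_apply, one_mul]
    exact Fintype.sum_equiv (MulAction.toPerm g⁻¹) _ _ (fun y => rfl)
  rw [this, Matrix.trace_toLin'_eq, Matrix.trace]
  simp [ones_apply]

theorem trace_idem [DecidableEq Ω] (h : Rank3 G a₀ b₁ b₂) {k θ θ' : ℂ}
    (hn : (Fintype.card Ω : ℂ) ≠ 0) (hne : θ ≠ θ') :
    (θ - θ') * Matrix.trace (idem (adj G a₀ b₁) k θ θ') =
      - k - ((Fintype.card Ω : ℂ) - 1) * θ' := by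
  have hd : θ - θ' ≠ 0 := sub_ne_zero.2 hne
  have h0 : Matrix.trace (adj G a₀ b₁) = 0 := by
    rw [Matrix.trace]
    apply Finset.sum_eq_zero
    intro x _
    exact adj_diag h x
  have h1 : Matrix.trace (ones Ω) = Fintype.card Ω := by
    rw [Matrix.trace]
    simp [ones_apply]
  rw [idem, Matrix.trace_smul, Matrix.trace_sub, Matrix.trace_sub, Matrix.trace_smul,
    Matrix.trace_smul, Matrix.trace_one, h0, h1]
  simp only [smul_eq_mul]
  field_simp
  ring

/-- The representation on the eigenspace. -/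
theorem exists_rep [DecidableEq Ω] (h : Rank3 G a₀ b₁ b₂) {k θ θ' γ : ℂ}
    (hn : (Fintype.card Ω : ℂ) ≠ 0) (hne : θ ≠ θ')
    (hAA : adj G a₀ b₁ * adj G a₀ b₁ =
      (θ + θ') • adj G a₀ b₁ - (θ * θ') • (1 : Matrix Ω Ω ℂ) + γ • ones Ω)
    (hAJ : adj G a₀ b₁ * ones Ω = k • ones Ω) (hJA : ones Ω * adj G a₀ b₁ = k • ones Ω)
    (hγ : γ * (Fintype.card Ω : ℂ) = (k - θ) * (k - θ')) :
    ∃ σ : Representation ℂ G
        (LinearMap.range (Matrix.toLin' (idem (adj G a₀ b₁) k θ θ'))),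
      (∀ g, σ.character g = LinearMap.trace ℂ (Ω → ℂ)
        (Matrix.toLin' (idem (adj G a₀ b₁) k θ θ') ∘ₗ Cfsg.permRep ℂ G Ω g)) ∧
      0 < finrank ℂ (LinearMap.range (Matrix.toLin' (idem (adj G a₀ b₁) k θ θ'))) ∧
      (finrank ℂ (LinearMap.range (Matrix.toLin' (idem (adj G a₀ b₁) k θ θ'))) : ℂ) * (θ - θ') =
        - k - ((Fintype.card Ω : ℂ) - 1) * θ' := by
  have hd : θ - θ' ≠ 0 := sub_ne_zero.2 hne
  obtain ⟨σ, hσ⟩ := Rep.exists_rep_of_idem (Cfsg.permRep ℂ G Ω)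
    (Matrix.toLin' (idem (adj G a₀ b₁) k θ θ'))
    (by rw [← Matrix.toLin'_mul, idem_mul_self hn hne hAA hAJ hJA hγ])
    (toLin'_comm _ (idem_inv a₀ b₁ k θ θ'))
  refine ⟨σ, hσ, ?_, ?_⟩
  · rw [Nat.pos_iff_ne_zero]
    intro h0
    rw [Submodule.finrank_eq_zero, LinearMap.range_eq_bot, LinearEquiv.map_eq_zero_iff] at h0
    have e₁ : idem (adj G a₀ b₁) k θ θ' a₀ b₁ = 0 := by rw [h0]; rfl
    have e₂ : idem (adj G a₀ b₁) k θ θ' a₀ b₂ = 0 := by rw [h0]; rfl
    rw [idem] at e₁ e₂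
    simp only [Matrix.sub_apply, Matrix.smul_apply, ones_apply, smul_eq_mul] at e₁ e₂
    rw [Matrix.one_apply_ne h.ne₁.symm, adj_apply,
      if_pos (show Orb G a₀ b₁ a₀ b₁ from ⟨1, one_smul _ _, one_smul _ _⟩)] at e₁
    have h2 : ¬ Orb G a₀ b₁ a₀ b₂ := by
      rw [orb_self_left_iff]; exact h.disj
    rw [Matrix.one_apply_ne h.ne₂.symm, adj_apply, if_neg h2] at e₂
    have e₃ : (θ - θ')⁻¹ = 0 := by linear_combination e₁ - e₂
    exact inv_ne_zero hd e₃
  · have := hσ 1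
    rw [Representation.char_one, map_one] at this
    rw [this]
    have e : Matrix.toLin' (idem (adj G a₀ b₁) k θ θ') ∘ₗ (1 : Module.End ℂ (Ω → ℂ)) =
        Matrix.toLin' (idem (adj G a₀ b₁) k θ θ') := rfl
    rw [e, Matrix.trace_toLin'_eq, mul_comm]
    exact trace_idem h hn hne

theorem block_of_val_one [IsPreprimitive G Ω] (h : Rank3 G a₀ b₁ b₂)
    (hk : val G a₀ b₁ ≠ val G a₀ b₂) (h1 : val G a₀ b₁ = 1) : False := by
  classical
  have huniq : ∀ {x y y' : Ω}, Orb G a₀ b₁ x y → Orb G a₀ b₁ x y' → y = y' := by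
    intro x y y' hy hy'
    have : Nat.card {y // Orb G a₀ b₁ x y} = 1 := by
      rw [card_orb (h.trans x)]; exact h1
    rw [Nat.card_eq_one_iff_unique] at this
    have := this.1.elim ⟨y, hy⟩ ⟨y', hy'⟩
    exact congrArg Subtype.val this
  have hab : Orb G a₀ b₁ a₀ b₁ := ⟨1, one_smul _ _, one_smul _ _⟩
  have hba : Orb G a₀ b₁ b₁ a₀ := h.orb_symm hk hab
  have hB : IsBlock G ({a₀, b₁} : Set Ω) := by
    rw [isBlock_iff_smul_eq_of_mem]
    intro g a ha hga
    have hg : Orb G a₀ b₁ (g • a₀) (g • b₁) := orb_smul g hab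
    have himg : g • ({a₀, b₁} : Set Ω) = {g • a₀, g • b₁} := by
      rw [← Set.image_smul, Set.image_pair]
    rw [himg]
    rcases ha with rfl | ha
    · rcases hga with hga | hga
      · rw [hga] at hg ⊢
        rw [huniq hg hab]
      · have hga' : g • a = b₁ := hga
        rw [hga'] at hg ⊢
        rw [huniq hg hba, Set.pair_comm]
    · have ha' : a = b₁ := ha
      subst ha'
      rcases hga with hga | hga
      · rw [hga] at hg ⊢
        rw [huniq (h.orb_symm hk hg) hab, Set.pair_comm]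
      · have hga' : g • a = a := hga
        rw [hga'] at hg ⊢
        rw [huniq (h.orb_symm hk hg) hba]
  rcases IsPreprimitive.isTrivialBlock_of_isBlock hB with h' | h'
  · exact h.ne₁ (h' (by simp) (by simp))
  · have : b₂ ∈ ({a₀, b₁} : Set Ω) := by rw [h']; trivial
    rcases this with h'' | h''
    · exact h.ne₂ h''
    · have h3 : b₂ = b₁ := h''
      apply h.disj
      rw [h3]
      exact mem_orbit_self b₁

/-- Number theory wrap-up: from the eigenvalue data. -/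
theorem wrap {m k β γ : ℕ} {θ θ' : ℂ} (hk : 1 ≤ k) (hkm : k + 1 ≤ m)
    (hs : θ + θ' = (β : ℂ) - γ) (hp : θ * θ' = (γ : ℂ) - k)
    (hγ : (γ : ℂ) * (2 * m) = ((k : ℂ) - θ) * (k - θ'))
    (htr : ((m : ℂ) - 1) * θ + m * θ' = - k) (h1 : k ≠ 1) :
    ∃ a : ℕ, 0 < a ∧ m = 2 * a ^ 2 + 2 * a + 1 ∧ k = a * (2 * a + 1) ∧
      2 * m = 1 + k + (a + 1) * (2 * a + 1) := by
  obtain ⟨s, hsdef⟩ : ∃ s : ℤ, s = (β : ℤ) - γ := ⟨_, rfl⟩
  have hs' : θ + θ' = (s : ℂ) := by rw [hs, hsdef]; push_cast; ring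
  have ht : θ = k + m * s := by linear_combination (-1) * htr + (m : ℂ) * hs'
  have ht' : θ' = - k - (m - 1) * s := by linear_combination hs' - ht
  have key : ((m : ℂ) - 1) * (k + m * s) ^ 2 + m * (k + (m - 1) * s) ^ 2 =
      2 * m * k - k ^ 2 := by
    have e1 : ((m : ℂ) - 1) * θ ^ 2 + m * θ' ^ 2 = 2 * m * k - k ^ 2 := by
      linear_combination (θ + θ') * htr - (2 * (m : ℂ)) * hp - hγ
    rw [← ht]
    have e2 : (k : ℂ) + (m - 1) * s = - θ' := by rw [ht']; ring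
    rw [e2]
    linear_combination e1
  have keyZ : ((m : ℤ) - 1) * (k + m * s) ^ 2 + m * (k + (m - 1) * s) ^ 2 =
      2 * m * k - k ^ 2 := by exact_mod_cast key
  have hk' : (1 : ℤ) ≤ k := by exact_mod_cast hk
  have hkm' : (k : ℤ) ≤ m - 1 := by
    have : ((k + 1 : ℕ) : ℤ) ≤ m := by exact_mod_cast hkm
    push_cast at this
    linarith
  rcases Arith.s_cases hk' hkm' keyZ with h0 | h0
  · exfalso
    rw [h0] at keyZ
    have := Arith.s_zero hk' hkm' keyZ
    exact h1 (by exact_mod_cast this)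
  · rw [h0] at keyZ
    obtain ⟨a, ha, e1, e2, e3⟩ := Arith.s_neg_one hk' hkm' keyZ
    refine ⟨a, ha, by exact_mod_cast e1, by exact_mod_cast e2, ?_⟩
    have : (2 * m : ℤ) = 1 + k + (a + 1) * (2 * a + 1) := by linarith
    exact_mod_cast this

end Cfsg.Agent.PermutationGroups.WielandtType.Main
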